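import Mathlib
import Groth.Agent.H77.WeilCorr
import Groth.Agent.H77.WeilDim
import Groth.Agent.H10.ZF_L2
import Groth.Agent.H95.ZF_L1

/-!
# helper74: S15452 assembly, part 1 (iterated Frobenius, fixed points are closed of multiplicity 1)
-/

set_option autoImplicit false
set_option linter.style.haveILetI false
universe u v w
open CategoryTheory CategoryTheory.Limits AlgebraicGeometry

namespace Groth.Agent.H74.ZF

theorem appLE_congr_hom {X Y : Scheme.{u}} {f g : X ⟶ Y} (h : f = g) (U : Y.Opens) (V : X.Opens)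
    (e : V ≤ f ⁻¹ᵁ U) : f.appLE U V e = g.appLE U V (h ▸ e) := by
  subst h; rfl

section FXpow
variable {X : Scheme.{u}} (FX : X ⟶ X)

/-- Iterates of an endomorphism of a scheme. -/
noncomputable def FXpow : ℕ → (X ⟶ X)
  | 0 => 𝟙 X
  | (m + 1) => FX ≫ FXpow m

theorem FXpow_base (hFb : FX.base = 𝟙 _) (m : ℕ) : (FXpow FX m).base = 𝟙 _ := by
  induction m with
  | zero => rfl
  | succ m ih =>
    show (FX ≫ FXpow FX m).base = 𝟙 _
    rw [Scheme.Hom.comp_base, hFb, ih, Category.comp_id]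

theorem le_preimage_of_base {G : X ⟶ X} (hGb : G.base = 𝟙 _) (U : X.Opens) : U ≤ G ⁻¹ᵁ U := by
  intro x hx
  show G.base x ∈ U
  rw [hGb]; exact hx

theorem id_appLE_apply (U : X.Opens) (h : U ≤ (𝟙 X : X ⟶ X) ⁻¹ᵁ U) (s : Γ(X, U)) :
    ((𝟙 X : X ⟶ X).appLE U U h).hom s = s := by
  have h1 : (𝟙 X : X ⟶ X).appLE U U h = (𝟙 X : X ⟶ X).app U :=
    (Scheme.Hom.app_eq_appLE (f := 𝟙 X) (U := U)).symm
  rw [h1]
  rfl

theorem FXpow_app (q : ℕ) (hFb : FX.base = 𝟙 _) (hle : ∀ U : X.Opens, U ≤ FX ⁻¹ᵁ U)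
    (hFapp : ∀ (U : X.Opens) (s : Γ(X, U)), (FX.appLE U U (hle U)).hom s = s ^ q)
    (m : ℕ) (U : X.Opens) (s : Γ(X, U)) :
    ((FXpow FX m).appLE U U (le_preimage_of_base (FXpow_base FX hFb m) U)).hom s = s ^ (q ^ m) := by
  induction m generalizing s with
  | zero =>
    show ((𝟙 X : X ⟶ X).appLE U U _).hom s = s ^ (q ^ 0)
    rw [pow_zero, pow_one]
    exact id_appLE_apply U _ s
  | succ m ih =>
    have e1 : (FXpow FX m).appLE U U (le_preimage_of_base (FXpow_base FX hFb m) U) ≫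
        FX.appLE U U (hle U) = (FX ≫ FXpow FX m).appLE U U
          (le_preimage_of_base (FXpow_base FX hFb (m + 1)) U) := by
      rw [Scheme.Hom.appLE_comp_appLE]
    have e2 := congrArg (fun φ => φ.hom s) e1
    simp only [CommRingCat.hom_comp, RingHom.comp_apply] at e2
    show ((FX ≫ FXpow FX m).appLE U U _).hom s = _
    rw [← e2, ih, hFapp, ← pow_mul, pow_succ]

end FXpow

section Frob
variable {X Y : Scheme.{u}} {π : Y ⟶ X} {FXm : X ⟶ X} (hFb : FXm.base = 𝟙 _)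
  (N : ℕ) (hFapp : ∀ (U : X.Opens) (s : Γ(X, U)),
    (FXm.appLE U U (le_preimage_of_base hFb U)).hom s = s ^ N)
  {G : Y ⟶ Y} (hG : G ≫ π = π ≫ FXm)

include hFb hG in
theorem preimage_le (U : X.Opens) : π ⁻¹ᵁ U ≤ G ⁻¹ᵁ (π ⁻¹ᵁ U) := by
  intro x hx
  show π (G x) ∈ U
  have h1 : π (G x) = FXm (π x) := by
    rw [← Scheme.Hom.comp_apply, hG, Scheme.Hom.comp_apply]
  have h2 : FXm (π x) = π x := by
    show FXm.base (π x) = π x
    rw [hFb]; rfl
  rw [h1, h2]; exact hx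

include hFapp in
theorem frob_app (U : X.Opens) (a : Γ(X, U)) :
    (G.appLE (π ⁻¹ᵁ U) (π ⁻¹ᵁ U) (preimage_le hFb hG U)).hom ((π.app U).hom a) =
      ((π.app U).hom a) ^ N := by
  have e1 : π.app U ≫ G.appLE (π ⁻¹ᵁ U) (π ⁻¹ᵁ U) (preimage_le hFb hG U) =
      (G ≫ π).appLE U (π ⁻¹ᵁ U) (by
        intro x hx; exact preimage_le hFb hG U hx) := by
    rw [π.app_eq_appLE, Scheme.Hom.appLE_comp_appLE]
  have e2 : FXm.appLE U U (le_preimage_of_base hFb U) ≫ π.app U =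
      (π ≫ FXm).appLE U (π ⁻¹ᵁ U) (by
        intro x hx; exact le_preimage_of_base hFb U hx) := by
    rw [π.app_eq_appLE, Scheme.Hom.appLE_comp_appLE]
  have e3 := appLE_congr_hom hG U (π ⁻¹ᵁ U) (by
        intro x hx; exact preimage_le hFb hG U hx)
  have e4 : π.app U ≫ G.appLE (π ⁻¹ᵁ U) (π ⁻¹ᵁ U) (preimage_le hFb hG U) =
      FXm.appLE U U (le_preimage_of_base hFb U) ≫ π.app U := by
    rw [e1, e3, e2]
  have := congrArg (fun φ => φ.hom a) e4
  simp only [CommRingCat.hom_comp, RingHom.comp_apply] at this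
  rw [this, hFapp, map_pow]

end Frob

section Fix
variable {k₀ : Type u} [Field k₀] [Finite k₀] {k : Type u} [Field k] [IsAlgClosed k]
  [Algebra k₀ k] {X Y P : Scheme.{u}} (f : X ⟶ Spec (CommRingCat.of k₀)) [LocallyOfFiniteType f]
  (π : Y ⟶ X) (sb : Y ⟶ Spec (CommRingCat.of k))
  (hπ : IsPullback π sb f (Spec.map (CommRingCat.ofHom (algebraMap k₀ k))))
  (m : ℕ) (hm : 1 ≤ m)
  {FXm : X ⟶ X} (hFb : FXm.base = 𝟙 _)
  (hFapp : ∀ (U : X.Opens) (s : Γ(X, U)),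
    (FXm.appLE U U (le_preimage_of_base hFb U)).hom s = s ^ ((Nat.card k₀) ^ m))
  {G : Y ⟶ Y} (hG : G ≫ π = π ≫ FXm)
  (p q : P ⟶ Y) (j d : Y ⟶ P) (hjp : j ≫ p = 𝟙 Y) (hjq : j ≫ q = G)
  (hdp : d ≫ p = 𝟙 Y) (hdq : d ≫ q = 𝟙 Y) (ξ : Y)

include hπ hm hFapp hG hjp hjq hdp hdq in
/-- (GEO-A) + (GEO-B): the points of the fixed locus are closed and of multiplicity one. -/
theorem fix_closed_mult (w : Y) (hw : d w ∈ closure ({j ξ} : Set P)) :
    IsClosed ({w} : Set Y) ∧ WeilCoh.preimMult d (j ξ) w hw = 1 := by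
  obtain ⟨_, ⟨U, hU, rfl⟩, hwU', -⟩ :=
    (X.isBasis_affineOpens).exists_subset_of_mem_open (Set.mem_univ (π w)) isOpen_univ
  have hwU : w ∈ π ⁻¹ᵁ U := hwU'
  set J := Ideal.map (d.stalkMap w).hom
    (RingHom.ker (Cyc.specMap (d w) (j ξ) (specializes_iff_mem_closure.mpr hw))) with hJdef
  have hJ : J ≤ IsLocalRing.maximalIdeal (Y.presheaf.stalk w) := by
    have hker : RingHom.ker (Cyc.specMap (d w) (j ξ) (specializes_iff_mem_closure.mpr hw)) ≤
        IsLocalRing.maximalIdeal _ := IsLocalRing.le_maximalIdeal (RingHom.ker_ne_top _)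
    rw [hJdef]
    refine (Ideal.map_mono hker).trans ?_
    have hloc : IsLocalHom (d.stalkMap w).hom := inferInstance
    exact ((IsLocalRing.local_hom_TFAE (d.stalkMap w).hom).out 0 2).mp hloc
  have h1 : ∀ a : Γ(X, U), (Y.presheaf.germ (π ⁻¹ᵁ U) w hwU).hom
      ((π.app U).hom a - ((π.app U).hom a) ^ ((Nat.card k₀) ^ m)) ∈ J := fun a =>
    Groth.Agent.H95.ZF_L1.germ_sub_pow_mem π ((Nat.card k₀) ^ m) G (fun U => preimage_le hFb hG U)
      (fun U a => frob_app hFb _ hFapp hG U a) p q j d hjp hjq hdp hdq ξ U a w hwU hw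
  obtain ⟨hcl, hJm⟩ := Groth.Agent.H10.ZF_L2.local_fix f π sb hπ m hm U hU w hwU J hJ h1
  refine ⟨hcl, ?_⟩
  unfold WeilCoh.preimMult
  rw [← hJdef, hJm]
  haveI : IsSimpleModule (Y.presheaf.stalk w)
      (Y.presheaf.stalk w ⧸ IsLocalRing.maximalIdeal (Y.presheaf.stalk w)) := by
    rw [isSimpleModule_iff_isCoatom]
    exact Ideal.isMaximal_def.mp inferInstance
  rw [Module.length_eq_one]
  rfl

end Fix

end Groth.Agent.H74.ZF
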