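import Mathlib
import Groth.Agent.H77.WeilCorr
import Groth.Agent.H77.WeilDim
import Groth.Agent.S15444

/-!
# helper74: S15452 assembly, part 2 (cohomological fixed point count)
-/

set_option autoImplicit false
set_option linter.style.haveILetI false
universe u v w
open CategoryTheory CategoryTheory.Limits AlgebraicGeometry WeilCoh

namespace Groth.Agent.H74.ZF

open Groth.Agent.H77

variable {k : Type u} [Field k] [IsAlgClosed k] {K : Type v} [Field K] [CharZero K]
  (T : WeilCoh.Theory k K) {Xb Pb : WeilCoh.Var k} (p q : Pb ⟶ Xb) (hP : WeilCoh.IsProd p q)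
  (j d : Xb ⟶ Pb) (hjp : j ≫ p = 𝟙 Xb) (hdp : d ≫ p = 𝟙 Xb)

include hP hjp hdp in
/-- `Tr(cl Γ · cl Δ)` is the number of points of `d⁻¹(Γ)` when these are closed of multiplicity 1. -/
theorem tr_cl_mul_cl_eq_card
    (hfix : ∀ (w : Xb.obj.left)
      (hw : sm d w ∈ closure ({sm j (genericPoint ↥Xb.obj.left)} : Set Pb.obj.left)),
      IsClosed ({w} : Set Xb.obj.left) ∧
        preimMult (sm d) (sm j (genericPoint ↥Xb.obj.left)) w hw = 1) :
    T.tr Pb (T.cl Pb (sm j (genericPoint ↥Xb.obj.left)) *
        T.cl Pb (sm d (genericPoint ↥Xb.obj.left))) =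
      (Nat.card {w : Xb.obj.left //
        sm d w ∈ closure ({sm j (genericPoint ↥Xb.obj.left)} : Set Pb.obj.left)} : K) := by
  classical
  set η := genericPoint ↥Xb.obj.left with hη
  have hN := dim_eq_add_of_isProd T p q hP
  have hdim : dim Xb.obj.left ≤ dim Pb.obj.left := by omega
  -- commute
  have hc := T.gradedComm Pb _ _ _ _ (T.cl_mem Pb (sm j η)) (T.cl_mem Pb (sm d η))
  have hsign : (-1 : K) ^ ((2 * (codim Pb.obj.left (sm j η) : ℤ)).natAbs *
      (2 * (codim Pb.obj.left (sm d η) : ℤ)).natAbs) = 1 := by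
    apply Even.neg_one_pow
    apply Even.mul_left
    rw [Int.natAbs_mul]
    exact Even.mul_right (by decide) _
  rw [hsign, one_smul] at hc
  rw [hc, ← tr_pull_section T d p hdp hdim]
  -- pull-back formula
  have hpj : pdim Pb.obj.left (sm j η) = dim Xb.obj.left :=
    pdim_image_genericPoint (sm j) (isClosedEmbedding_of_section j p hjp)
  have hpull := T.cl_pull d (sm j η)
    (by
      intro w hw
      rw [pdim_eq_zero_of_isClosed w (hfix w hw.1).1, hpj, hN]
      push_cast
      ring)
    (Or.inr (fun w hw => (hfix w hw.1).2))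
  rw [hpull]
  -- evaluate the finite sum
  have hterm : ∀ w : {w : Xb.obj.left // IsCompPt ((sm d) ⁻¹' closure ({sm j η} : Set Pb.obj.left)) w},
      T.tr Xb ((preimMult (sm d) (sm j η) w.1 w.2.1 : K) • T.cl Xb w.1) = 1 := by
    intro w
    rw [(hfix w.1 w.2.1).2, Nat.cast_one, one_smul]
    exact Groth.Agent.S15444.result k K T Xb w.1 (hfix w.1 w.2.1).1
  have hcard : Nat.card {w : Xb.obj.left //
      IsCompPt ((sm d) ⁻¹' closure ({sm j η} : Set Pb.obj.left)) w} =
      Nat.card {w : Xb.obj.left // sm d w ∈ closure ({sm j η} : Set Pb.obj.left)} := by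
    apply Nat.card_congr
    refine Equiv.subtypeEquivRight (fun w => ?_)
    constructor
    · intro h; exact h.1
    · intro h
      refine ⟨h, fun w' hw' hs => ?_⟩
      have h1 : w ∈ closure ({w'} : Set Xb.obj.left) := specializes_iff_mem_closure.mp hs
      rw [(hfix w' hw').1.closure_eq] at h1
      exact (Set.mem_singleton_iff.mp h1).symm
  rw [← hcard]
  by_cases hfin : Finite {w : Xb.obj.left //
      IsCompPt ((sm d) ⁻¹' closure ({sm j η} : Set Pb.obj.left)) w}
  · haveI := Fintype.ofFinite {w : Xb.obj.left //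
      IsCompPt ((sm d) ⁻¹' closure ({sm j η} : Set Pb.obj.left)) w}
    rw [finsum_eq_sum_of_fintype, map_sum, Finset.sum_congr rfl (fun w _ => hterm w)]
    simp [Nat.card_eq_fintype_card]
  · rw [not_finite_iff_infinite] at hfin
    have hsupp : (Function.support fun w : {w : Xb.obj.left //
        IsCompPt ((sm d) ⁻¹' closure ({sm j η} : Set Pb.obj.left)) w} =>
        (preimMult (sm d) (sm j η) w.1 w.2.1 : K) • T.cl Xb w.1) = Set.univ := by
      ext w
      simp only [Function.mem_support, Set.mem_univ, iff_true]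
      intro h0
      have := hterm w
      rw [h0, map_zero] at this
      exact zero_ne_one this
    rw [finsum_of_infinite_support (by rw [hsupp]; exact Set.infinite_univ), map_zero,
      Nat.card_eq_zero_of_infinite, Nat.cast_zero]

end Groth.Agent.H74.ZF
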