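import Mathlib
import Groth.Agent.H74.ZF.Asm1
import Groth.Agent.H74.ZF.Asm2
import Groth.Agent.S15450
import Groth.Agent.S13050
import Groth.Agent.H37.ZF_PC1
import Groth.Agent.H64.ZF_PC2
import Groth.Agent.H64.ZF_PC3a
import Groth.Agent.H77.ZF_PC3b

/-!
# helper74: S15452 assembly, part 3 (the Lefschetz count of points)
-/

set_option autoImplicit false
set_option linter.style.haveILetI false
universe u v w
open CategoryTheory CategoryTheory.Limits AlgebraicGeometry WeilCoh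

namespace Groth.Agent.H74.ZF

open Groth.Agent.H77

variable {k₀ : Type u} [Field k₀] [Finite k₀] {k : Type u} [Field k] [IsAlgClosed k] [Algebra k₀ k]
    {K : Type v} [Field K] [CharZero K] (T : WeilCoh.Theory k K)
    {X : Scheme.{u}} (f : X ⟶ Spec (CommRingCat.of k₀)) [LocallyOfFiniteType f] [QuasiCompact f]
    (FX : X ⟶ X) (hFb : FX.base = 𝟙 _) (hle : ∀ U : X.Opens, U ≤ FX ⁻¹ᵁ U)
    (hFapp : ∀ (U : X.Opens) (s : Γ(X, U)), (FX.appLE U U (hle U)).hom s = s ^ Nat.card k₀)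
    (Xb : WeilCoh.Var k) (π : Xb.obj.left ⟶ X)
    (hπ : IsPullback π Xb.obj.hom f (Spec.map (CommRingCat.ofHom (algebraMap k₀ k))))
    (F : Xb ⟶ Xb) (hF : WeilCoh.sm F ≫ π = π ≫ FX)
    (Pb : WeilCoh.Var k) (p q : Pb ⟶ Xb) (hP : WeilCoh.IsProd p q)

include hF in
theorem sm_Fpow_comp (m : ℕ) : sm (Fpow F m) ≫ π = π ≫ FXpow FX m := by
  induction m with
  | zero =>
    show sm (𝟙 Xb) ≫ π = π ≫ 𝟙 X
    rw [sm_id, Category.id_comp, Category.comp_id]
  | succ m ih =>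
    show sm (F ≫ Fpow F m) ≫ π = π ≫ (FX ≫ FXpow FX m)
    rw [sm_comp, Category.assoc, ih, ← Category.assoc, hF, Category.assoc]

include hFb hle hFapp hπ hF hP in
theorem nPts_eq_trace (m : ℕ) (hm : 1 ≤ m) :
    (Zeta.nPts f m : K) = ∑ i ∈ Finset.range (2 * dim Xb.obj.left + 1),
      (-1 : K) ^ i * LinearMap.trace K (T.gr Xb (i : ℤ)) ((T.pullDeg F (i : ℤ)) ^ m) := by
  obtain ⟨j, hjp, hjq⟩ := exists_lift_of_isProd p q hP (𝟙 Xb) (Fpow F m)
  obtain ⟨d, hdp, hdq⟩ := exists_lift_of_isProd p q hP (𝟙 Xb) (𝟙 Xb)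
  have hLef := Groth.Agent.S15450.result k K T Xb Pb (Fpow F m) p q hP j d hjp hjq hdp hdq
  have hpow : ∀ i : ℤ, T.pullDeg (Fpow F m) i = (T.pullDeg F i) ^ m := by
    intro i
    apply LinearMap.ext
    intro b
    apply Subtype.ext
    rw [coe_pullDeg_pow, ← pull_Fpow]
    rfl
  have hjp' : sm j ≫ sm p = 𝟙 _ := by rw [← sm_comp, hjp, sm_id]
  have hjq' : sm j ≫ sm q = sm (Fpow F m) := by rw [← sm_comp, hjq]
  have hdp' : sm d ≫ sm p = 𝟙 _ := by rw [← sm_comp, hdp, sm_id]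
  have hdq' : sm d ≫ sm q = 𝟙 _ := by rw [← sm_comp, hdq, sm_id]
  have hFbm := FXpow_base FX hFb m
  have hFappm : ∀ (U : X.Opens) (s : Γ(X, U)),
      ((FXpow FX m).appLE U U (le_preimage_of_base hFbm U)).hom s = s ^ ((Nat.card k₀) ^ m) :=
    FXpow_app FX (Nat.card k₀) hFb hle hFapp m
  have hG := sm_Fpow_comp FX Xb π F hF m
  have hfix : ∀ (w : Xb.obj.left)
      (hw : sm d w ∈ closure ({sm j (genericPoint ↥Xb.obj.left)} : Set Pb.obj.left)),
      IsClosed ({w} : Set Xb.obj.left) ∧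
        preimMult (sm d) (sm j (genericPoint ↥Xb.obj.left)) w hw = 1 := fun w hw =>
    fix_closed_mult f π Xb.obj.hom hπ m hm hFbm hFappm hG (sm p) (sm q) (sm j) (sm d)
      hjp' hjq' hdp' hdq' (genericPoint ↥Xb.obj.left) w hw
  have htr := tr_cl_mul_cl_eq_card T p q hP j d hjp hdp hfix
  have hcl : closure ({sm j (genericPoint ↥Xb.obj.left)} : Set Pb.obj.left) =
      Set.range (sm j) := by
    rw [← Set.image_singleton, (isClosedEmbedding_of_section j p hjp).closure_image_eq,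
      (genericPoint_spec ↥Xb.obj.left).def, Set.image_univ]
  have c1 := Groth.Agent.H37.ZF_PC1.card_fix_eq_card_points Xb.obj.hom (sm (Fpow F m))
    (sm_w (Fpow F m)) (sm p) (sm q) hP (sm j) (sm d) hjp' hjq' hdp' hdq' hcl
    (fun w hw => (hfix w hw).1)
  have c2 := Groth.Agent.H64.ZF_PC2.card_points_eq f π Xb.obj.hom hπ (FXpow FX m)
    (sm (Fpow F m)) hG (sm_w (Fpow F m))
  obtain ⟨L, iF, iA1, iA2, iT, iFin, hrank, hL⟩ :=
    Groth.Agent.H64.ZF_PC3a.exists_subfield k₀ k m hm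
  have c3 := Groth.Agent.H77.ZF_PC3b.card_fixed_eq_pointCount f ((Nat.card k₀) ^ m)
    (FXpow FX m) hFbm (le_preimage_of_base hFbm) hFappm L hL
  have c4 := Groth.Agent.S13050.result f L
  rw [hrank] at c4
  rw [← c4, ← c3, ← c2, ← c1, ← htr, hLef]
  refine Finset.sum_congr rfl (fun i _ => ?_)
  rw [hpow]

end Groth.Agent.H74.ZF
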